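import Mathlib
import Groth.Agent.RatMapExt.Sections
import Groth.Agent.RegLoc.Basic

/-!
# Gluing extensions given on local rings

A morphism defined over a dense, flat, preimmersed `η : T ⟶ S` extends to the open set of points at
whose local rings it extends.
-/

set_option autoImplicit false
universe u

open CategoryTheory CategoryTheory.Limits AlgebraicGeometry TopologicalSpace IsLocalRing

namespace Groth.Agent.WeilExt

variable {S T Y G : Scheme.{u}} (η : T ⟶ S) [IsPreimmersion η] [Flat η] [IsDominant η]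
  (pY : Y ⟶ S) (pG : G ⟶ S) [Smooth pY] [IsSeparated pG] [LocallyOfFiniteType pG]

theorem ext_on_open' [IsReduced Y] (V : Y.Opens) {m₁ m₂ : (V : Scheme.{u}) ⟶ G}
    (h : m₁ ≫ pG = m₂ ≫ pG)
    (he : (pullback.fst pY η ∣_ V) ≫ m₁ = (pullback.fst pY η ∣_ V) ≫ m₂) : m₁ = m₂ := by
  haveI : IsReduced (V : Scheme.{u}) := isReduced_of_isOpenImmersion V.ι
  have hd : Dense (Set.range (pullback.fst pY η).base) := by
    rw [Scheme.Pullback.range_fst]
    exact Dense.preimage (Scheme.Hom.denseRange η) pY.isOpenMap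
  haveI : IsDominant (pullback.fst pY η ∣_ V) := ⟨fun q => by
    rw [mem_closure_iff]
    intro o ho hq
    obtain ⟨y, ⟨w, hwo, rfl⟩, ⟨p, hp⟩⟩ := hd.inter_open_nonempty (V.ι.base '' o)
      (V.ι.isOpenEmbedding.isOpenMap o ho) ⟨_, q, hq, rfl⟩
    have hpV : p ∈ pullback.fst pY η ⁻¹ᵁ V := by
      change (pullback.fst pY η).base p ∈ (V : Set Y)
      rw [hp]
      exact w.2
    refine ⟨w, hwo, ⟨p, hpV⟩, V.ι.isOpenEmbedding.injective ?_⟩
    have e := congrArg (fun g => g.base (⟨p, hpV⟩ : (pullback.fst pY η ⁻¹ᵁ V).toScheme))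
      (morphismRestrict_ι (pullback.fst pY η) V)
    simp only [Scheme.Hom.comp_apply] at e
    exact e.trans hp⟩
  exact ext_of_isDominant_of_isSeparated pG h _ he

theorem exists_glue_stalks [IsLocallyNoetherian S] (hY : ∀ y : Y, IsRegularLocalRing (Y.presheaf.stalk y))
    (hgen : ∀ s t : S, s ⤳ t → t ∈ Set.range η.base → s ∈ Set.range η.base)
    (a : pullback pY η ⟶ G) (ha : a ≫ pG = pullback.fst pY η ≫ pY)
    (P : Set Y) (hP : Set.range (pullback.fst pY η).base ⊆ P)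
    (H : ∀ y ∈ P, ∃ φ : Spec (Y.presheaf.stalk y) ⟶ G, φ ≫ pG = Y.fromSpecStalk y ≫ pY ∧
      ∀ {Q : Scheme.{u}} (q : Q ⟶ Spec (Y.presheaf.stalk y)) (m : Q ⟶ pullback pY η),
        m ≫ pullback.fst pY η = q ≫ Y.fromSpecStalk y → m ≫ a = q ≫ φ) :
    ∃ (U : Y.Opens) (g : (U : Scheme.{u}) ⟶ G), P ⊆ (U : Set Y) ∧ g ≫ pG = U.ι ≫ pY ∧
      ∀ l : pullback pY η ⟶ (U : Scheme.{u}), l ≫ U.ι = pullback.fst pY η → l ≫ g = a := by
  have : IsLocallyNoetherian Y := LocallyOfFiniteType.isLocallyNoetherian pY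
  have : ∀ y : Y, _root_.IsReduced (Y.presheaf.stalk y) := fun y => by
    have := hY y
    have := RegLoc.isDomain (Y.presheaf.stalk y)
    infer_instance
  have : IsReduced Y := isReduced_of_isReduced_stalk Y
  let j := pullback.fst pY η
  have hiso : ∀ p, IsIso (j.stalkMap p) := fun p => by
    have hfl : (j.stalkMap p).hom.Flat := AlgebraicGeometry.Flat.stalkMap j p
    refine (ConcreteCategory.isIso_iff_bijective _).2 ⟨?_, j.stalkMap_surjective p⟩
    letI := (j.stalkMap p).hom.toAlgebra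
    have : Module.Flat (Y.presheaf.stalk (j.base p)) ((pullback pY η).presheaf.stalk p) := hfl
    have : IsLocalHom (algebraMap (Y.presheaf.stalk (j.base p)) ((pullback pY η).presheaf.stalk p)) :=
      inferInstanceAs (IsLocalHom (j.stalkMap p).hom)
    have := Module.FaithfullyFlat.of_flat_of_isLocalHom
      (A := Y.presheaf.stalk (j.base p)) (B := (pullback pY η).presheaf.stalk p)
    exact FaithfulSMul.algebraMap_injective _ _
  have : IsReduced (pullback pY η) := by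
    have : ∀ q, _root_.IsReduced ((pullback pY η).presheaf.stalk q) := fun q => by
      have := hiso q
      have : _root_.IsReduced (Y.presheaf.stalk (j.base q)) := inferInstance
      exact isReduced_of_injective (inv (j.stalkMap q)).hom
        (ConcreteCategory.bijective_of_isIso (inv (j.stalkMap q))).1
    exact isReduced_of_isReduced_stalk _
  have key : ∀ y : P, ∃ (V : Y.Opens) (v : (V : Scheme.{u}) ⟶ G), y.1 ∈ V ∧ v ≫ pG = V.ι ≫ pY ∧
      (j ∣_ V) ≫ v = (j ⁻¹ᵁ V).ι ≫ a := by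
    rintro ⟨y, hy⟩
    obtain ⟨φ, hφ, hφa⟩ := H y hy
    have := hY y
    have : IsDomain (Y.presheaf.stalk y) := RegLoc.isDomain _
    obtain ⟨V, hyV, v, hv, hv'⟩ := spread_out_of_isGermInjective' pY pG (x := y) φ hφ
    obtain ⟨W, hW, hWd, hyW, hWV⟩ := RatMapExt.exists_affine_domain_nhd y V hyV
    have : IsAffine (W : Scheme.{u}) := hW
    have : Nonempty W := ⟨⟨y, hyW⟩⟩
    have : IsIntegral (W : Scheme.{u}) := by
      have : IsDomain Γ((W : Scheme.{u}), ⊤) :=
        W.topIso.commRingCatIsoToRingEquiv.toMulEquiv.isDomain Γ(Y, W)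
      exact IsIntegral.of_isIso (W : Scheme.{u}).isoSpec.inv
    refine ⟨W, Y.homOfLE hWV ≫ v, hyW, by rw [Category.assoc, hv', Scheme.homOfLE_ι_assoc], ?_⟩
    have : IsReduced (j ⁻¹ᵁ W : Scheme.{u}) := isReduced_of_isOpenImmersion (j ⁻¹ᵁ W).ι
    let s := Y.fromSpecStalk y
    let Q := pullback s j
    let mQ : Q ⟶ pullback pY η := pullback.snd s j
    have hmW : ∀ c, mQ.base c ∈ j ⁻¹ᵁ W := fun c => by
      change j.base (mQ.base c) ∈ W
      rw [← Scheme.Hom.comp_apply, ← pullback.condition, Scheme.Hom.comp_apply]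
      exact (Y.range_fromSpecStalk.le ⟨_, rfl⟩ : s.base _ ⤳ y).mem_open W.2 hyW
    let m' : Q ⟶ (j ⁻¹ᵁ W : Scheme.{u}) := IsOpenImmersion.lift (j ⁻¹ᵁ W).ι mQ (by
      rintro _ ⟨c, rfl⟩
      rw [Scheme.Opens.range_ι]
      exact hmW c)
    have hm' : m' ≫ (j ⁻¹ᵁ W).ι = mQ := IsOpenImmersion.lift_fac _ _ _
    have : IsDominant m' := by
      refine ⟨fun q => ?_⟩
      let y' : (W : Scheme.{u}) := ⟨y, hyW⟩
      let q' : (W : Scheme.{u}) := ⟨j.base ((j ⁻¹ᵁ W).ι.base q), q.2⟩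
      let w := W.ι.base (genericPoint (W : Scheme.{u}))
      have hwy : w ⤳ y := (genericPoint_specializes y').map W.ι.base.hom.continuous
      have hwq : w ⤳ j.base ((j ⁻¹ᵁ W).ι.base q) :=
        (genericPoint_specializes q').map W.ι.base.hom.continuous
      obtain ⟨ω, hω⟩ : w ∈ Set.range j.base := by
        rw [Scheme.Pullback.range_fst]
        refine hgen _ _ (hwq.map pY.base.hom.continuous) ?_
        have : j.base ((j ⁻¹ᵁ W).ι.base q) ∈ Set.range j.base := ⟨_, rfl⟩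
        rw [Scheme.Pullback.range_fst] at this
        exact this
      obtain ⟨c', hc'⟩ : w ∈ Set.range s.base := (Scheme.range_fromSpecStalk).ge hwy
      obtain ⟨c, -, hc⟩ := Scheme.Pullback.exists_preimage_pullback (f := s) (g := j) c' ω (hc'.trans hω.symm)
      have hs : m'.base c ⤳ q := by
        rw [← (j ⁻¹ᵁ W).ι.isOpenEmbedding.isInducing.specializes_iff, ← Scheme.Hom.comp_apply, hm']
        change mQ.base c ⤳ _
        rw [show mQ.base c = ω from hc, ← j.isEmbedding.isInducing.specializes_iff, hω]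
        exact hwq
      exact hs.mem_closed isClosed_closure (subset_closure ⟨c, rfl⟩)
    refine ext_of_isDominant_of_isSeparated pG ?_ m' ?_
    · rw [Category.assoc, Category.assoc, Category.assoc, hv', Scheme.homOfLE_ι_assoc, ← Category.assoc,
        morphismRestrict_ι, Category.assoc, ha]
    · have h1 : m' ≫ (j ∣_ W) ≫ Y.homOfLE hWV = pullback.fst s j ≫ V.fromSpecStalkOfMem y hyV := by
        rw [← cancel_mono V.ι]
        simp only [Category.assoc, Scheme.homOfLE_ι, morphismRestrict_ι, Scheme.Opens.fromSpecStalkOfMem_ι]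
        rw [reassoc_of% hm']
        exact pullback.condition.symm
      rw [reassoc_of% h1, ← hv, reassoc_of% hm']
      exact (hφa (pullback.fst s j) mQ pullback.condition.symm).symm
  choose V v hpV hv hva using key
  have compat : ∀ p q, Y.homOfLE (inf_le_left : V p ⊓ V q ≤ V p) ≫ v p =
      Y.homOfLE (inf_le_right : V p ⊓ V q ≤ V q) ≫ v q := by
    intro p q
    refine ext_on_open' η pY pG _ ?_ ?_
    · rw [Category.assoc, Category.assoc, hv, hv, Scheme.homOfLE_ι_assoc, Scheme.homOfLE_ι_assoc]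
    · have e : ∀ r (hle : V p ⊓ V q ≤ V r), (j ∣_ (V p ⊓ V q)) ≫ Y.homOfLE hle ≫ v r =
          (j ⁻¹ᵁ (V p ⊓ V q)).ι ≫ a := fun r hle => by
        have h1 : (j ∣_ (V p ⊓ V q)) ≫ Y.homOfLE hle =
            (pullback pY η).homOfLE (j.preimage_mono hle) ≫ (j ∣_ V r) := by
          rw [← cancel_mono (V r).ι]
          simp only [Category.assoc, Scheme.homOfLE_ι, morphismRestrict_ι, Scheme.homOfLE_ι_assoc]
        rw [reassoc_of% h1, hva, Scheme.homOfLE_ι_assoc]
      rw [e p, e q]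
  have hglue : ∀ s t, pullback.fst ((Scheme.Opens.iSupOpenCover V).f s)
        ((Scheme.Opens.iSupOpenCover V).f t) ≫ v s = pullback.snd _ _ ≫ v t := by
    intro s t
    let p₁ := pullback.fst (Y.homOfLE (le_iSup V s)) (Y.homOfLE (le_iSup V t))
    let p₂ := pullback.snd (Y.homOfLE (le_iSup V s)) (Y.homOfLE (le_iSup V t))
    have hp : p₁ ≫ (V s).ι = p₂ ≫ (V t).ι := by
      rw [← Y.homOfLE_ι (le_iSup V s), pullback.condition_assoc, Y.homOfLE_ι]
    let l : pullback (Y.homOfLE (le_iSup V s)) (Y.homOfLE (le_iSup V t)) ⟶ (V s ⊓ V t : Y.Opens) :=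
      IsOpenImmersion.lift (V s ⊓ V t).ι (p₁ ≫ (V s).ι) (by
        rintro _ ⟨w, rfl⟩
        rw [Scheme.Opens.range_ι]
        refine ⟨(p₁.base w).2, ?_⟩
        rw [hp]
        exact (p₂.base w).2)
    have hl : l ≫ (V s ⊓ V t).ι = p₁ ≫ (V s).ι := IsOpenImmersion.lift_fac _ _ _
    have h₁ : p₁ = l ≫ Y.homOfLE inf_le_left := by
      rw [← cancel_mono (V s).ι, Category.assoc, Y.homOfLE_ι, hl]
    have h₂ : p₂ = l ≫ Y.homOfLE inf_le_right := by
      rw [← cancel_mono (V t).ι, Category.assoc, Y.homOfLE_ι, hl, hp]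
    show p₁ ≫ v s = p₂ ≫ v t
    rw [h₁, h₂, Category.assoc, Category.assoc, compat s t]
  let g := (Scheme.Opens.iSupOpenCover V).glueMorphisms v hglue
  have hg : ∀ t, Y.homOfLE (le_iSup V t) ≫ g = v t :=
    fun t ↦ (Scheme.Opens.iSupOpenCover V).ι_glueMorphisms v hglue t
  refine ⟨iSup V, g, fun y hy => Opens.mem_iSup.2 ⟨⟨y, hy⟩, hpV ⟨y, hy⟩⟩, ?_, fun l hl => ?_⟩
  · refine (Scheme.Opens.iSupOpenCover V).hom_ext _ _ fun t ↦ ?_
    show Y.homOfLE (le_iSup V t) ≫ g ≫ pG = Y.homOfLE (le_iSup V t) ≫ (iSup V).ι ≫ pY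
    exact (Category.assoc _ _ _).symm.trans ((congrArg (· ≫ pG) (hg t)).trans ((hv t).trans
      (Scheme.homOfLE_ι_assoc ..).symm))
  · have hcov : ⨆ p, j ⁻¹ᵁ V p = ⊤ :=
      eq_top_iff.2 fun p _ => Opens.mem_iSup.2 ⟨⟨j.base p, hP ⟨p, rfl⟩⟩, hpV _⟩
    refine ((pullback pY η).openCoverOfIsOpenCover _ (IsOpenCover.mk hcov)).hom_ext _ _ fun p => ?_
    have h1 : (j ⁻¹ᵁ V p).ι ≫ l = (j ∣_ V p) ≫ Y.homOfLE (le_iSup V p) := by
      rw [← cancel_mono (iSup V).ι]
      simp only [Category.assoc, hl, Scheme.homOfLE_ι, morphismRestrict_ι]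
      rfl
    show (j ⁻¹ᵁ V p).ι ≫ l ≫ g = (j ⁻¹ᵁ V p).ι ≫ a
    exact ((reassoc_of% h1) g).trans ((congrArg ((j ∣_ V p) ≫ ·) (hg p)).trans (hva p))

end Groth.Agent.WeilExt
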