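import Groth.Agent.CurveExt.Basic

/-!
# Extension at one point, with control on the generic point
(variant of `CurveExt.exists_extend_at`)
-/

set_option autoImplicit false
set_option linter.style.haveILetI false
universe u

open CategoryTheory CategoryTheory.Limits AlgebraicGeometry TopologicalSpace IsLocalRing
open Groth.Agent.CurveExt

namespace Groth.Agent.WeilExt

variable {X Y S : Scheme.{u}}

/-- Extension at one point. -/
theorem exists_extend_at' [IsLocallyNoetherian X] (pX : X ⟶ S) (pY : Y ⟶ S) [IsSeparated pY]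
    [LocallyOfFiniteType pY] {U : X.Opens} (hU : Dense (U : Set X)) (h : (U : Scheme.{u}) ⟶ Y)
    (hh : h ≫ pY = U.ι ≫ pX) (x : X) [IsDomain (X.presheaf.stalk x)]
    (H : ∀ ψU : Spec (CommRingCat.of (FractionRing (X.presheaf.stalk x))) ⟶ (U : Scheme.{u}),
      ψU ≫ U.ι = Spec.map (CommRingCat.ofHom (algebraMap (X.presheaf.stalk x)
          (FractionRing (X.presheaf.stalk x)))) ≫ X.fromSpecStalk x →
      ∃ l : Spec (X.presheaf.stalk x) ⟶ Y, l ≫ pY = X.fromSpecStalk x ≫ pX ∧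
        Spec.map (CommRingCat.ofHom (algebraMap (X.presheaf.stalk x)
          (FractionRing (X.presheaf.stalk x)))) ≫ l = ψU ≫ h) :
    ∃ (V : X.Opens) (v : (V : Scheme.{u}) ⟶ Y), x ∈ V ∧ v ≫ pY = V.ι ≫ pX ∧
      X.homOfLE (inf_le_right : U ⊓ V ≤ V) ≫ v = X.homOfLE (inf_le_left : U ⊓ V ≤ U) ≫ h := by
  set K := FractionRing (X.presheaf.stalk x)
  let gen : Spec (CommRingCat.of K) ⟶ Spec (X.presheaf.stalk x) :=
    Spec.map (CommRingCat.ofHom (algebraMap (X.presheaf.stalk x) K))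
  let ψ := gen ≫ X.fromSpecStalk x
  obtain ⟨W, hW, hWd, hxW, -⟩ := RatMapExt.exists_affine_domain_nhd x ⊤ trivial
  haveI : IsAffine (W : Scheme.{u}) := hW
  haveI : Nonempty W := ⟨⟨x, hxW⟩⟩
  haveI : IsIntegral (W : Scheme.{u}) := by
    haveI : IsDomain Γ((W : Scheme.{u}), ⊤) :=
      W.topIso.commRingCatIsoToRingEquiv.toMulEquiv.isDomain Γ(X, W)
    exact IsIntegral.of_isIso (W : Scheme.{u}).isoSpec.inv
  have hψW : ∀ p, ψ p ∈ W := fun p ↦ (X.range_fromSpecStalk.le ⟨_, rfl⟩ : ψ p ⤳ x).mem_open W.2 hxW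
  -- `ψ` hits the generic point of `W`
  let w₀ : (W : Scheme.{u}) := ⟨ψ default, hψW default⟩
  have hgen : ∀ w : (W : Scheme.{u}), w₀ ⤳ w := by
    intro w
    suffices h1 : genericPoint (W : Scheme.{u}) = w₀ from h1 ▸ genericPoint_specializes w
    letI := X.presheaf.algebra_section_stalk (U := W) ⟨x, hxW⟩
    haveI := hW.isLocalization_stalk ⟨x, hxW⟩
    let bot : Spec Γ(X, W) := (⟨⊥, Ideal.isPrime_bot⟩ : PrimeSpectrum Γ(X, W))
    have hbot : hW.fromSpec bot = ψ default := by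
      have e : ψ = Spec.map (X.presheaf.germ W x hxW ≫
          CommRingCat.ofHom (algebraMap (X.presheaf.stalk x) K)) ≫ hW.fromSpec := by
        show gen ≫ X.fromSpecStalk x = _
        rw [← hW.fromSpecStalk_eq_fromSpecStalk hxW]
        exact ((congrArg (· ≫ hW.fromSpec) (Spec.map_comp _ _)).trans (Category.assoc _ _ _)).symm
      rw [e, Scheme.Hom.comp_apply]
      congr 1
      refine PrimeSpectrum.ext (eq_bot_iff.mp ?_ |> fun h ↦ le_antisymm bot_le h)
      refine eq_bot_iff.mpr fun a ha ↦ ?_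
      have ha' : algebraMap (X.presheaf.stalk x) K (algebraMap Γ(X, W) (X.presheaf.stalk x) a) ∈
          (default : Spec (CommRingCat.of K)).asIdeal := ha
      rw [(Ideal.eq_bot_or_top (default : Spec (CommRingCat.of K)).asIdeal).resolve_right
        (default : Spec (CommRingCat.of K)).2.ne_top, Ideal.mem_bot] at ha'
      have h3 := IsFractionRing.injective (X.presheaf.stalk x) K (ha'.trans (map_zero _).symm)
      exact IsLocalization.injective (X.presheaf.stalk x)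
        (hW.primeIdealOf ⟨x, hxW⟩).asIdeal.primeCompl_le_nonZeroDivisors
        (h3.trans (map_zero _).symm)
    apply W.ι.isOpenEmbedding.injective
    show _ = ψ default
    rw [← hbot]
    refine ((Specializes.antisymm ?_ ?_).eq)
    · obtain ⟨w', hw'⟩ : hW.fromSpec bot ∈ Set.range W.ι := by
        rw [Scheme.Opens.range_ι, ← hW.range_fromSpec]; exact ⟨bot, rfl⟩
      rw [← hw']
      exact (genericPoint_specializes w').map W.ι.continuous
    · obtain ⟨q, hq⟩ : W.ι (genericPoint (W : Scheme.{u})) ∈ Set.range hW.fromSpec :=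
        hW.range_fromSpec.ge (genericPoint (W : Scheme.{u})).2
      rw [← hq]
      exact ((PrimeSpectrum.le_iff_specializes bot q).mp bot_le).map hW.fromSpec.continuous
  have hψU : ∀ p, ψ p ∈ U := fun p ↦ by
    obtain ⟨z, hzW, hzU⟩ := hU.inter_open_nonempty W W.2 ⟨x, hxW⟩
    rw [Subsingleton.elim p default]
    exact ((hgen ⟨z, hzW⟩).map W.ι.continuous).mem_open U.2 hzU
  let ψU := IsOpenImmersion.lift U.ι ψ (by rintro _ ⟨p, rfl⟩; rw [Scheme.Opens.range_ι]; exact hψU p)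
  have hψUι : ψU ≫ U.ι = ψ := IsOpenImmersion.lift_fac _ _ _
  have hi : (ψU ≫ h) ≫ pY = gen ≫ X.fromSpecStalk x ≫ pX := by
    rw [Category.assoc, hh, reassoc_of% hψUι]
    exact Category.assoc _ _ _
  obtain ⟨l, hl, hl'⟩ := H ψU hψUι
  obtain ⟨V, hxV, v, hv, hv'⟩ := spread_out_of_isGermInjective' pX pY (x := x) l hl
  refine ⟨V ⊓ W, X.homOfLE inf_le_left ≫ v, ⟨hxV, hxW⟩,
    by rw [Category.assoc, hv', Scheme.homOfLE_ι_assoc], ?_⟩
  have hin : ∀ p, ψ p ∈ U ⊓ (V ⊓ W) := fun p ↦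
    ⟨hψU p, (X.range_fromSpecStalk.le ⟨_, rfl⟩ : ψ p ⤳ x).mem_open V.2 hxV, hψW p⟩
  let ψ' := IsOpenImmersion.lift (U ⊓ (V ⊓ W)).ι ψ
    (by rintro _ ⟨p, rfl⟩; rw [Scheme.Opens.range_ι]; exact hin p)
  have hψ' : ψ' ≫ (U ⊓ (V ⊓ W)).ι = ψ := IsOpenImmersion.lift_fac _ _ _
  haveI : IsDominant ψ' := by
    refine ⟨fun q ↦ ?_⟩
    have hs : ψ' default ⤳ q := by
      rw [← (U ⊓ (V ⊓ W)).ι.isOpenEmbedding.isInducing.specializes_iff, ← Scheme.Hom.comp_apply, hψ']
      exact (hgen ⟨_, q.2.2.2⟩).map W.ι.continuous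
    exact hs.mem_closed isClosed_closure (subset_closure ⟨default, rfl⟩)
  haveI : IsReduced ((U ⊓ (V ⊓ W) : X.Opens) : Scheme.{u}) :=
    isReduced_of_isOpenImmersion (X.homOfLE (le_trans inf_le_right inf_le_right : U ⊓ (V ⊓ W) ≤ W))
  refine ext_of_isDominant_of_isSeparated pY ?_ ψ' ?_
  · rw [Category.assoc, Category.assoc, Category.assoc, hh, hv']
    simp only [Scheme.homOfLE_ι_assoc]
  · have hA : ψ' ≫ X.homOfLE (inf_le_right : U ⊓ (V ⊓ W) ≤ V ⊓ W) ≫ X.homOfLE inf_le_left =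
        gen ≫ V.fromSpecStalkOfMem x hxV := by
      rw [← cancel_mono V.ι]
      simp only [Category.assoc, Scheme.homOfLE_ι, Scheme.Opens.fromSpecStalkOfMem_ι]
      exact hψ'
    have hB : ψ' ≫ X.homOfLE (inf_le_left : U ⊓ (V ⊓ W) ≤ U) = ψU := by
      rw [← cancel_mono U.ι, Category.assoc, Scheme.homOfLE_ι, hψ', hψUι]
    rw [reassoc_of% hA, reassoc_of% hB, ← hv]
    exact hl'

end Groth.Agent.WeilExt
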