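import Groth.Agent.WeilExt.Alg
import Groth.Agent.WeilExt.AtPoint
import Groth.Agent.RegLoc.UFD
import Groth.Agent.RegLoc.Basic
import Groth.Agent.FDesc.BaseChangeStalk

/-!
# Extension at a point of a closed subscheme from its points of codimension at most one
-/

set_option autoImplicit false
universe u

open CategoryTheory CategoryTheory.Limits AlgebraicGeometry IsLocalRing

namespace Groth.Agent.WeilExt

theorem ringHom_of_range_subset {X : Scheme.{u}} {V : X.Opens} (hV : IsAffineOpen V) {A : Type u}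
    [CommRing A] (s : Spec (CommRingCat.of A) ⟶ X) (hs : Set.range s.base ⊆ (V : Set X)) :
    ∃ ψ : Γ(X, V) →+* A, Spec.map (CommRingCat.ofHom ψ) ≫ hV.fromSpec = s := by
  have h : Set.range s.base ⊆ Set.range hV.fromSpec.base := by rwa [hV.range_fromSpec]
  refine ⟨(Spec.preimage (IsOpenImmersion.lift hV.fromSpec s h)).hom, ?_⟩
  change Spec.map (Spec.preimage (IsOpenImmersion.lift hV.fromSpec s h)) ≫ hV.fromSpec = s
  rw [Spec.map_preimage, IsOpenImmersion.lift_fac]

theorem ringKrullDim_stalk_fromSpecStalk {X : Scheme.{u}} (x : X) (q : Spec (X.presheaf.stalk x)) :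
    ringKrullDim (X.presheaf.stalk ((X.fromSpecStalk x).base q)) = q.asIdeal.height := by
  haveI := FDesc.BaseChangeStalk.flat_fromSpecStalk x
  have hfl : ((X.fromSpecStalk x).stalkMap q).hom.Flat := AlgebraicGeometry.Flat.stalkMap _ q
  have hinj : Function.Injective ((X.fromSpecStalk x).stalkMap q).hom := by
    letI := ((X.fromSpecStalk x).stalkMap q).hom.toAlgebra
    haveI : Module.Flat (X.presheaf.stalk ((X.fromSpecStalk x).base q))
        ((Spec (X.presheaf.stalk x)).presheaf.stalk q) := hfl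
    haveI : IsLocalHom (algebraMap (X.presheaf.stalk ((X.fromSpecStalk x).base q))
        ((Spec (X.presheaf.stalk x)).presheaf.stalk q)) :=
      inferInstanceAs (IsLocalHom ((X.fromSpecStalk x).stalkMap q).hom)
    haveI := Module.FaithfullyFlat.of_flat_of_isLocalHom
      (A := X.presheaf.stalk ((X.fromSpecStalk x).base q)) (B := (Spec (X.presheaf.stalk x)).presheaf.stalk q)
    exact FaithfulSMul.algebraMap_injective _ _
  rw [ringKrullDim_eq_of_ringEquiv
    (RingEquiv.ofBijective _ ⟨hinj, (X.fromSpecStalk x).stalkMap_surjective q⟩)]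
  haveI : q.asIdeal.IsPrime := (q : PrimeSpectrum (X.presheaf.stalk x)).isPrime
  letI : Algebra (X.presheaf.stalk x) ((Spec (X.presheaf.stalk x)).presheaf.stalk q) :=
    StructureSheaf.stalkAlgebra (X.presheaf.stalk x) q
  haveI : IsLocalization.AtPrime ((Spec (X.presheaf.stalk x)).presheaf.stalk q) q.asIdeal :=
    StructureSheaf.IsLocalization.to_stalk (X.presheaf.stalk x) q
  exact IsLocalization.AtPrime.ringKrullDim_eq_height q.asIdeal ((Spec (X.presheaf.stalk x)).presheaf.stalk q)

/-- Extension at `δ x` from the points of codimension at most one of `X` through `x`. -/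
theorem exists_extend_diag {S P X G : Scheme.{u}} [S.IsSeparated] (pP : P ⟶ S) (pG : G ⟶ S) [IsSeparated pG]
    [LocallyOfFiniteType pG] [IsLocallyNoetherian P] (δ : X ⟶ P) [IsPreimmersion δ] (x : X)
    [IsRegularLocalRing (P.presheaf.stalk (δ.base x))] [IsRegularLocalRing (X.presheaf.stalk x)]
    {U2 : P.Opens} (hU2 : Dense (U2 : Set P)) (φ : (U2 : Scheme.{u}) ⟶ G) (hφ : φ ≫ pG = U2.ι ≫ pP)
    {W : G.Opens} (hW : IsAffineOpen W)
    (hz : ∀ z : X, z ⤳ x → ringKrullDim (X.presheaf.stalk z) ≤ 1 →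
      ∃ u : (U2 : Scheme.{u}), U2.ι.base u = δ.base z ∧ φ.base u ∈ W) :
    ∃ (V : P.Opens) (v : (V : Scheme.{u}) ⟶ G), δ.base x ∈ V ∧ v ≫ pG = V.ι ≫ pP ∧
      P.homOfLE (inf_le_right : U2 ⊓ V ≤ V) ≫ v = P.homOfLE (inf_le_left : U2 ⊓ V ≤ U2) ≫ φ := by
  have : IsDomain (P.presheaf.stalk (δ.base x)) := RegLoc.isDomain _
  have : IsDomain (X.presheaf.stalk x) := RegLoc.isDomain _
  refine exists_extend_at' pP pG hU2 φ hφ (δ.base x) fun ψU hψU => ?_
  let O := P.presheaf.stalk (δ.base x)
  have : UniqueFactorizationMonoid O := RegLoc.UFD.uniqueFactorizationMonoid _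
  let K := FractionRing O
  let g : O →+* X.presheaf.stalk x := (δ.stalkMap x).hom
  -- the primes coming from `X`
  have key : ∀ p : PrimeSpectrum (X.presheaf.stalk x), p.asIdeal.height ≤ 1 →
      ∀ r : Γ(G, W) →+* K, Spec.map (CommRingCat.ofHom r) ≫ hW.fromSpec = ψU ≫ φ →
        ∀ c, ∃ a d : O, d ∉ p.asIdeal.comap g ∧ r c * algebraMap O K d = algebraMap O K a := by
    intro p hp r hr c
    let q := p.asIdeal.comap g
    let L := Localization.AtPrime q
    let j : Spec (CommRingCat.of L) ⟶ P :=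
      Spec.map (CommRingCat.ofHom (algebraMap O L)) ≫ P.fromSpecStalk (δ.base x)
    let pp : Spec (X.presheaf.stalk x) := p
    let z : X := (X.fromSpecStalk x).base pp
    have hzx : z ⤳ x := X.range_fromSpecStalk.le ⟨pp, rfl⟩
    obtain ⟨u, hu, huW⟩ := hz z hzx (by
      rw [ringKrullDim_stalk_fromSpecStalk]; exact WithBot.coe_le_coe.2 hp)
    let c0 : Spec (CommRingCat.of L) := closedPoint L
    have hjc : j.base c0 = δ.base z := by
      have h1 : (Spec.map (CommRingCat.ofHom (algebraMap O L))).base c0 =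
          (Spec.map (δ.stalkMap x)).base pp :=
        PrimeSpectrum.ext (IsLocalization.AtPrime.under_maximalIdeal L q)
      simp only [j, z, Scheme.Hom.comp_apply, h1]
      rw [← Scheme.Hom.comp_apply, Scheme.SpecMap_stalkMap_fromSpecStalk, Scheme.Hom.comp_apply]
    let O2 : P.Opens := U2.ι ''ᵁ (φ ⁻¹ᵁ W)
    have hjO : Set.range j.base ⊆ (O2 : Set P) := by
      rintro _ ⟨t, rfl⟩
      have ht : j.base t ⤳ j.base c0 := (IsLocalRing.specializes_closedPoint t).map j.base.hom.continuous
      exact ht.mem_open O2.2 (hjc ▸ ⟨u, huW, hu⟩)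
    let jU := IsOpenImmersion.lift U2.ι j (by
      rintro _ ⟨t, rfl⟩
      rw [Scheme.Opens.range_ι]
      obtain ⟨w, -, hw⟩ := hjO ⟨t, rfl⟩
      rw [← hw]
      exact w.2)
    have hjU : jU ≫ U2.ι = j := IsOpenImmersion.lift_fac _ _ _
    obtain ⟨ρ, hρ⟩ := ringHom_of_range_subset hW (jU ≫ φ) (by
      rintro _ ⟨t, rfl⟩
      obtain ⟨w, hw, hwe⟩ := hjO ⟨t, rfl⟩
      rw [← hjU, Scheme.Hom.comp_apply] at hwe
      rw [Scheme.Hom.comp_apply, ← U2.ι.isOpenEmbedding.injective hwe]
      exact hw)
    have hunit : ∀ s : q.primeCompl, IsUnit (algebraMap O K s) := fun s =>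
      isUnit_iff_ne_zero.2 fun h0 => s.2 (by
        rw [(IsFractionRing.injective O K) (h0.trans (map_zero _).symm)]
        exact zero_mem _)
    let lk : L →+* K := IsLocalization.lift hunit
    have hlk : lk.comp (algebraMap O L) = algebraMap O K := IsLocalization.lift_comp _
    have hr' : r = lk.comp ρ := by
      have hψ : ψU = Spec.map (CommRingCat.ofHom lk) ≫ jU := by
        rw [← cancel_mono U2.ι, hψU, Category.assoc, hjU, ← Category.assoc, ← Spec.map_comp]
        exact congrArg (fun f => Spec.map (CommRingCat.ofHom f) ≫ P.fromSpecStalk (δ.base x)) hlk.symm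
      rw [hψ, Category.assoc, ← hρ, ← Category.assoc, cancel_mono hW.fromSpec, ← Spec.map_comp] at hr
      exact congrArg CommRingCat.Hom.hom (Spec.map_injective hr)
    obtain ⟨⟨a, d⟩, he⟩ := IsLocalization.surj q.primeCompl (ρ c)
    refine ⟨a, d, d.2, ?_⟩
    have := congrArg lk he
    simp only [map_mul] at this
    rw [← RingHom.comp_apply lk (algebraMap O L) d, ← RingHom.comp_apply lk (algebraMap O L) a, hlk] at this
    rw [hr', RingHom.comp_apply]
    exact this
  -- the generic point goes into `W`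
  let q₀ : Spec (X.presheaf.stalk x) := (⟨⊥, Ideal.isPrime_bot⟩ : PrimeSpectrum (X.presheaf.stalk x))
  obtain ⟨u₀, hu₀, hu₀W⟩ := hz ((X.fromSpecStalk x).base q₀)
    (X.range_fromSpecStalk.le ⟨_, rfl⟩) (by
      rw [ringKrullDim_stalk_fromSpecStalk]; simp [q₀])
  have hgen : ∀ t, (ψU ≫ φ).base t ∈ W := fun t => by
    have hsp : ψU.base t ⤳ u₀ := by
      rw [← U2.ι.isOpenEmbedding.isInducing.specializes_iff, hu₀, ← Scheme.Hom.comp_apply, hψU,
        ← Scheme.Hom.comp_apply, ← Scheme.SpecMap_stalkMap_fromSpecStalk, Scheme.Hom.comp_apply,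
        Scheme.Hom.comp_apply]
      refine Specializes.map ?_ (P.fromSpecStalk (δ.base x)).base.hom.continuous
      refine (PrimeSpectrum.le_iff_specializes
        ((Spec.map (CommRingCat.ofHom (algebraMap O K))).base t : PrimeSpectrum O) _).1 ?_
      intro a ha
      have ha' : algebraMap O K a ∈ (t : PrimeSpectrum K).asIdeal := ha
      rw [(Ideal.eq_bot_or_top (t : PrimeSpectrum K).asIdeal).resolve_right
        (t : PrimeSpectrum K).2.ne_top, Ideal.mem_bot] at ha'
      rw [(IsFractionRing.injective O K) (ha'.trans (map_zero _).symm)]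
      exact zero_mem _
    rw [Scheme.Hom.comp_apply]
    exact (hsp.map φ.base.hom.continuous).mem_open W.2 hu₀W
  obtain ⟨r, hr⟩ := ringHom_of_range_subset hW (ψU ≫ φ) (by rintro _ ⟨t, rfl⟩; exact hgen t)
  have hrange : ∀ c, r c ∈ (algebraMap O K).range := fun c =>
    mem_range_of_forall g (r c) fun p hp hht => key ⟨p, hp⟩ hht r hr c
  choose l₀ hl₀ using hrange
  let l' : Γ(G, W) →+* O :=
    { toFun := l₀
      map_one' := IsFractionRing.injective O K (by rw [hl₀, map_one, map_one])
      map_zero' := IsFractionRing.injective O K (by rw [hl₀, map_zero, map_zero])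
      map_add' := fun a b => IsFractionRing.injective O K (by rw [hl₀, map_add, map_add, hl₀, hl₀])
      map_mul' := fun a b => IsFractionRing.injective O K (by rw [hl₀, map_mul, map_mul, hl₀, hl₀]) }
  have hl : Spec.map (CommRingCat.ofHom (algebraMap O K)) ≫ Spec.map (CommRingCat.ofHom l') ≫ hW.fromSpec =
      ψU ≫ φ := by
    rw [← hr, ← Category.assoc, ← Spec.map_comp]
    exact congrArg (fun f => Spec.map (CommRingCat.ofHom f) ≫ hW.fromSpec) (RingHom.ext hl₀)
  refine ⟨Spec.map (CommRingCat.ofHom l') ≫ hW.fromSpec, ?_, hl⟩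
  -- compatibility with the maps to `S`
  let gen : Spec (CommRingCat.of K) ⟶ Spec (CommRingCat.of O) :=
    Spec.map (CommRingCat.ofHom (algebraMap O K))
  have he : gen ≫ (Spec.map (CommRingCat.ofHom l') ≫ hW.fromSpec) ≫ pG =
      gen ≫ P.fromSpecStalk (δ.base x) ≫ pP := by
    rw [← Category.assoc, hl, Category.assoc, hφ, ← Category.assoc, hψU, Category.assoc]
  haveI : IsDominant gen := ⟨(PrimeSpectrum.denseRange_comap_iff_ker_le_nilRadical (algebraMap O K)).2
    (by rw [(RingHom.injective_iff_ker_eq_bot _).1 (IsFractionRing.injective O K)]; exact bot_le)⟩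
  haveI : IsDomain (CommRingCat.of O) := inferInstanceAs (IsDomain O)
  rw [Category.assoc] at he ⊢
  exact ext_of_isDominant gen he

end Groth.Agent.WeilExt
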