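import Mathlib
import Groth.Prelude.Def_Neron
import Groth.Agent.RatMapExt.Sections
import Groth.Agent.RegLoc.Basic
import Groth.Agent.NeronLib.Dense

/-!
# Spreading a morphism from the generic fibre to an open subscheme
-/

set_option autoImplicit false
universe u

open CategoryTheory CategoryTheory.Limits AlgebraicGeometry TopologicalSpace IsLocalRing

namespace Groth.Agent.WeilExt

variable {R : Type u} [CommRing R] [IsDomain R] {Y G : Scheme.{u}}
  (pY : Y ⟶ Spec (CommRingCat.of R)) (pG : G ⟶ Spec (CommRingCat.of R))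

theorem range_genPt : Set.range (Neron.genPt R).base = {(⟨⊥, Ideal.isPrime_bot⟩ : PrimeSpectrum R)} := by
  ext q
  refine ⟨?_, ?_⟩
  · rintro ⟨p, rfl⟩
    refine Set.mem_singleton_iff.2 (PrimeSpectrum.ext (le_antisymm (fun a ha => ?_) bot_le))
    have ha' : algebraMap R (FractionRing R) a ∈ (p : PrimeSpectrum (FractionRing R)).asIdeal := ha
    rw [(Ideal.eq_bot_or_top (p : PrimeSpectrum (FractionRing R)).asIdeal).resolve_right
      (p : PrimeSpectrum (FractionRing R)).2.ne_top, Ideal.mem_bot] at ha'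
    exact (Ideal.mem_bot).2 (IsFractionRing.injective R (FractionRing R) (ha'.trans (map_zero _).symm))
  · rintro rfl
    exact ⟨(⟨⊥, Ideal.isPrime_bot⟩ : PrimeSpectrum (FractionRing R)), PrimeSpectrum.ext
      ((RingHom.injective_iff_ker_eq_bot _).1 (IsFractionRing.injective R (FractionRing R)))⟩

theorem dense_range_fst [Flat pY] [LocallyOfFinitePresentation pY] :
    Dense (Set.range (pullback.fst pY (Neron.genPt R)).base) := by
  rw [Scheme.Pullback.range_fst]
  exact Dense.preimage (Scheme.Hom.denseRange _) pY.isOpenMap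

theorem mem_range_fst_of_specializes {y z : Y} (h : z ⤳ y)
    (hy : y ∈ Set.range (pullback.fst pY (Neron.genPt R)).base) :
    z ∈ Set.range (pullback.fst pY (Neron.genPt R)).base := by
  rw [Scheme.Pullback.range_fst] at hy ⊢
  have hy' : (pY.base y : PrimeSpectrum R) = ⟨⊥, Ideal.isPrime_bot⟩ :=
    Set.mem_singleton_iff.1 (range_genPt (R := R) ▸ hy)
  refine (range_genPt (R := R)).ge (Set.mem_singleton_iff.2 (PrimeSpectrum.ext (le_antisymm ?_ bot_le)))
  have := (PrimeSpectrum.le_iff_specializes (pY.base z : PrimeSpectrum R) (pY.base y)).2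
    (h.map pY.base.hom.continuous)
  rw [hy'] at this
  exact this

theorem ext_on_open [IsReduced Y] [Flat pY] [LocallyOfFinitePresentation pY] [IsSeparated pG]
    (V : Y.Opens) {m₁ m₂ : (V : Scheme.{u}) ⟶ G} (h : m₁ ≫ pG = m₂ ≫ pG)
    (he : (pullback.fst pY (Neron.genPt R) ∣_ V) ≫ m₁ = (pullback.fst pY (Neron.genPt R) ∣_ V) ≫ m₂) :
    m₁ = m₂ := by
  haveI : IsReduced (V : Scheme.{u}) := isReduced_of_isOpenImmersion V.ι
  haveI : IsDominant (pullback.fst pY (Neron.genPt R) ∣_ V) := ⟨fun q => by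
    rw [mem_closure_iff]
    intro o ho hq
    obtain ⟨y, ⟨w, hwo, rfl⟩, ⟨p, hp⟩⟩ := (dense_range_fst pY).inter_open_nonempty (V.ι.base '' o)
      (V.ι.isOpenEmbedding.isOpenMap o ho) ⟨_, q, hq, rfl⟩
    have hpV : p ∈ pullback.fst pY (Neron.genPt R) ⁻¹ᵁ V := by
      change (pullback.fst pY (Neron.genPt R)).base p ∈ (V : Set Y)
      rw [hp]
      exact w.2
    refine ⟨w, hwo, ⟨p, hpV⟩, V.ι.isOpenEmbedding.injective ?_⟩
    have e := congrArg (fun g => g.base (⟨p, hpV⟩ : (pullback.fst pY (Neron.genPt R) ⁻¹ᵁ V).toScheme))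
      (morphismRestrict_ι (pullback.fst pY (Neron.genPt R)) V)
    simp only [Scheme.Hom.comp_apply] at e
    exact e.trans hp⟩
  exact ext_of_isDominant_of_isSeparated pG h _ he

variable [IsNoetherianRing R]

/-- a morphism on the generic fibre spreads to a dense open -/
theorem exists_spread [Smooth pY] (hY : ∀ y : Y, IsRegularLocalRing (Y.presheaf.stalk y))
    [IsSeparated pG] [LocallyOfFiniteType pG]
    (a : pullback pY (Neron.genPt R) ⟶ G) (ha : a ≫ pG = pullback.fst pY _ ≫ pY) :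
    ∃ (U : Y.Opens) (g : (U : Scheme.{u}) ⟶ G), Dense (U : Set Y) ∧ g ≫ pG = U.ι ≫ pY ∧
      Set.range (pullback.fst pY (Neron.genPt R)).base ⊆ (U : Set Y) ∧
      ∀ l : pullback pY (Neron.genPt R) ⟶ (U : Scheme.{u}), l ≫ U.ι = pullback.fst pY _ → l ≫ g = a := by
  haveI : IsNoetherianRing ↑(CommRingCat.of R) := ‹_›
  haveI : IsLocallyNoetherian Y := LocallyOfFiniteType.isLocallyNoetherian pY
  haveI : IsReduced Y := by
    have : ∀ y : Y, _root_.IsReduced (Y.presheaf.stalk y) := fun y => by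
      have := hY y
      have := RegLoc.isDomain (Y.presheaf.stalk y)
      infer_instance
    exact isReduced_of_isReduced_stalk Y
  let j := pullback.fst pY (Neron.genPt R)
  haveI : IsPreimmersion (Neron.genPt R) := by
    apply IsPreimmersion.of_isLocalization (M := nonZeroDivisors R)
  haveI : Flat (Neron.genPt R) := by
    rw [HasRingHomProperty.Spec_iff (P := @Flat)]
    exact RingHom.flat_algebraMap_iff.2 (IsLocalization.flat (FractionRing R) (nonZeroDivisors R))
  have hiso : ∀ p, IsIso (j.stalkMap p) := fun p => by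
    let y := j.base p
    have hfl : (j.stalkMap p).hom.Flat := AlgebraicGeometry.Flat.stalkMap j p
    refine (ConcreteCategory.isIso_iff_bijective _).2 ⟨?_, j.stalkMap_surjective p⟩
    letI := (j.stalkMap p).hom.toAlgebra
    haveI : Module.Flat (Y.presheaf.stalk y) ((pullback pY (Neron.genPt R)).presheaf.stalk p) := hfl
    haveI : IsLocalHom (algebraMap (Y.presheaf.stalk y) ((pullback pY (Neron.genPt R)).presheaf.stalk p)) :=
      inferInstanceAs (IsLocalHom (j.stalkMap p).hom)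
    haveI := Module.FaithfullyFlat.of_flat_of_isLocalHom
      (A := Y.presheaf.stalk y) (B := (pullback pY (Neron.genPt R)).presheaf.stalk p)
    exact FaithfulSMul.algebraMap_injective _ _
  haveI : IsReduced (pullback pY (Neron.genPt R)) := by
    have : ∀ q, _root_.IsReduced ((pullback pY (Neron.genPt R)).presheaf.stalk q) := fun q => by
      haveI := hiso q
      have := hY (j.base q)
      have := RegLoc.isDomain (Y.presheaf.stalk (j.base q))
      exact isReduced_of_injective (inv (j.stalkMap q)).hom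
        (ConcreteCategory.bijective_of_isIso (inv (j.stalkMap q))).1
    exact isReduced_of_isReduced_stalk _
  have key : ∀ p, ∃ (V : Y.Opens) (v : (V : Scheme.{u}) ⟶ G), j.base p ∈ V ∧ v ≫ pG = V.ι ≫ pY ∧
      (j ∣_ V) ≫ v = (j ⁻¹ᵁ V).ι ≫ a := by
    intro p
    let y := j.base p
    have := hY y
    have : IsDomain (Y.presheaf.stalk y) := RegLoc.isDomain _
    haveI := hiso p
    let φ : Spec (Y.presheaf.stalk y) ⟶ G :=
      Spec.map (inv (j.stalkMap p)) ≫ (pullback pY (Neron.genPt R)).fromSpecStalk p ≫ a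
    have hφj : Spec.map (j.stalkMap p) ≫ φ = (pullback pY (Neron.genPt R)).fromSpecStalk p ≫ a := by
      rw [← Spec.map_comp_assoc, IsIso.inv_hom_id, Spec.map_id, Category.id_comp]
    have hφ : φ ≫ pG = Y.fromSpecStalk y ≫ pY := by
      rw [← cancel_epi (Spec.map (j.stalkMap p)), ← Category.assoc, hφj, Category.assoc, ha,
        ← Category.assoc (Spec.map _), Scheme.SpecMap_stalkMap_fromSpecStalk, Category.assoc]
    obtain ⟨V, hyV, v, hv, hv'⟩ := spread_out_of_isGermInjective' pY pG (x := y) φ hφ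
    obtain ⟨W, hW, hWd, hyW, hWV⟩ := RatMapExt.exists_affine_domain_nhd y V hyV
    haveI : IsAffine (W : Scheme.{u}) := hW
    haveI : Nonempty W := ⟨⟨y, hyW⟩⟩
    haveI : IsIntegral (W : Scheme.{u}) := by
      haveI : IsDomain Γ((W : Scheme.{u}), ⊤) :=
        W.topIso.commRingCatIsoToRingEquiv.toMulEquiv.isDomain Γ(Y, W)
      exact IsIntegral.of_isIso (W : Scheme.{u}).isoSpec.inv
    refine ⟨W, Y.homOfLE hWV ≫ v, hyW, by rw [Category.assoc, hv', Scheme.homOfLE_ι_assoc], ?_⟩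
    have hpW : p ∈ j ⁻¹ᵁ W := hyW
    haveI : IsReduced (j ⁻¹ᵁ W : Scheme.{u}) := by
      exact isReduced_of_isOpenImmersion (j ⁻¹ᵁ W).ι
    haveI : IsDominant ((j ⁻¹ᵁ W).fromSpecStalkOfMem p hpW) := by
      refine ⟨fun q => ?_⟩
      let y' : (W : Scheme.{u}) := ⟨y, hyW⟩
      let q' : (W : Scheme.{u}) := ⟨j.base ((j ⁻¹ᵁ W).ι.base q), q.2⟩
      have hgy : W.ι.base (genericPoint (W : Scheme.{u})) ⤳ y :=
        (genericPoint_specializes y').map W.ι.base.hom.continuous
      obtain ⟨ω, hω⟩ := mem_range_fst_of_specializes pY hgy ⟨p, rfl⟩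
      have hωp : ω ⤳ p := by
        rw [← j.isEmbedding.isInducing.specializes_iff, hω]; exact hgy
      have hωq : ω ⤳ (j ⁻¹ᵁ W).ι.base q := by
        rw [← j.isEmbedding.isInducing.specializes_iff, hω]
        exact (genericPoint_specializes q').map
          W.ι.base.hom.continuous
      obtain ⟨c, hc⟩ : ω ∈ Set.range ((pullback pY (Neron.genPt R)).fromSpecStalk p).base :=
        (Scheme.range_fromSpecStalk).ge hωp
      have hs : ((j ⁻¹ᵁ W).fromSpecStalkOfMem p hpW).base c ⤳ q := by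
        rw [← (j ⁻¹ᵁ W).ι.isOpenEmbedding.isInducing.specializes_iff, ← Scheme.Hom.comp_apply,
          Scheme.Opens.fromSpecStalkOfMem_ι, hc]
        exact hωq
      exact hs.mem_closed isClosed_closure (subset_closure ⟨c, rfl⟩)
    refine ext_of_isDominant_of_isSeparated pG ?_ ((j ⁻¹ᵁ W).fromSpecStalkOfMem p hpW) ?_
    · rw [Category.assoc, Category.assoc, Category.assoc, hv', Scheme.homOfLE_ι_assoc, ← Category.assoc,
        morphismRestrict_ι, Category.assoc, ha]
    · rw [← Category.assoc _ (j ⁻¹ᵁ W).ι a, Scheme.Opens.fromSpecStalkOfMem_ι]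
      have : (j ⁻¹ᵁ W).fromSpecStalkOfMem p hpW ≫ (j ∣_ W) ≫ Y.homOfLE hWV =
          Spec.map (j.stalkMap p) ≫ V.fromSpecStalkOfMem y hyV := by
        rw [← cancel_mono V.ι]
        simp only [Category.assoc, Scheme.homOfLE_ι, morphismRestrict_ι,
          Scheme.Opens.fromSpecStalkOfMem_ι, Scheme.Opens.fromSpecStalkOfMem_ι_assoc]
        exact (Scheme.SpecMap_stalkMap_fromSpecStalk j (x := p)).symm
      rw [reassoc_of% this, ← hv, hφj]
  choose V v hpV hv hva using key
  have compat : ∀ p q, Y.homOfLE (inf_le_left : V p ⊓ V q ≤ V p) ≫ v p =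
      Y.homOfLE (inf_le_right : V p ⊓ V q ≤ V q) ≫ v q := by
    intro p q
    refine ext_on_open pY pG _ ?_ ?_
    · rw [Category.assoc, Category.assoc, hv, hv, Scheme.homOfLE_ι_assoc, Scheme.homOfLE_ι_assoc]
    · have e : ∀ r (hle : V p ⊓ V q ≤ V r), (j ∣_ (V p ⊓ V q)) ≫ Y.homOfLE hle ≫ v r =
          (j ⁻¹ᵁ (V p ⊓ V q)).ι ≫ a := fun r hle => by
        have h1 : (j ∣_ (V p ⊓ V q)) ≫ Y.homOfLE hle =
            (pullback pY (Neron.genPt R)).homOfLE (j.preimage_mono hle) ≫ (j ∣_ V r) := by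
          rw [← cancel_mono (V r).ι]
          simp only [Category.assoc, Scheme.homOfLE_ι, morphismRestrict_ι, Scheme.homOfLE_ι_assoc]
        rw [reassoc_of% h1, hva, Scheme.homOfLE_ι_assoc]
      rw [e p, e q]
  have hglue : ∀ s t, pullback.fst ((Scheme.Opens.iSupOpenCover V).f s)
        ((Scheme.Opens.iSupOpenCover V).f t) ≫ v s = pullback.snd _ _ ≫ v t := by
    intro s t
    let p₁ := pullback.fst (Y.homOfLE (le_iSup V s)) (Y.homOfLE (le_iSup V t))
    let p₂ := pullback.snd (Y.homOfLE (le_iSup V s)) (Y.homOfLE (le_iSup V t))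
    have hp : p₁ ≫ (V s).ι = p₂ ≫ (V t).ι := by
      rw [← Y.homOfLE_ι (le_iSup V s), pullback.condition_assoc, Y.homOfLE_ι]
    let l : pullback (Y.homOfLE (le_iSup V s)) (Y.homOfLE (le_iSup V t)) ⟶ (V s ⊓ V t : Y.Opens) :=
      IsOpenImmersion.lift (V s ⊓ V t).ι (p₁ ≫ (V s).ι) (by
        rintro _ ⟨w, rfl⟩
        rw [Scheme.Opens.range_ι]
        refine ⟨(p₁.base w).2, ?_⟩
        rw [hp]
        exact (p₂.base w).2)
    have hl : l ≫ (V s ⊓ V t).ι = p₁ ≫ (V s).ι := IsOpenImmersion.lift_fac _ _ _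
    have h₁ : p₁ = l ≫ Y.homOfLE inf_le_left := by
      rw [← cancel_mono (V s).ι, Category.assoc, Y.homOfLE_ι, hl]
    have h₂ : p₂ = l ≫ Y.homOfLE inf_le_right := by
      rw [← cancel_mono (V t).ι, Category.assoc, Y.homOfLE_ι, hl, hp]
    show p₁ ≫ v s = p₂ ≫ v t
    rw [h₁, h₂, Category.assoc, Category.assoc, compat s t]
  let g := (Scheme.Opens.iSupOpenCover V).glueMorphisms v hglue
  have hg : ∀ t, Y.homOfLE (le_iSup V t) ≫ g = v t :=
    fun t ↦ (Scheme.Opens.iSupOpenCover V).ι_glueMorphisms v hglue t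
  have hsub : Set.range j.base ⊆ ((iSup V : Y.Opens) : Set Y) := by
    rintro _ ⟨p, rfl⟩
    exact Opens.mem_iSup.2 ⟨p, hpV p⟩
  refine ⟨iSup V, g, (dense_range_fst pY).mono hsub, ?_, hsub, fun l hl => ?_⟩
  · refine (Scheme.Opens.iSupOpenCover V).hom_ext _ _ fun t ↦ ?_
    show Y.homOfLE (le_iSup V t) ≫ g ≫ pG = Y.homOfLE (le_iSup V t) ≫ (iSup V).ι ≫ pY
    exact (Category.assoc _ _ _).symm.trans ((congrArg (· ≫ pG) (hg t)).trans ((hv t).trans
      (Scheme.homOfLE_ι_assoc ..).symm))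
  · have hcov : ⨆ p, j ⁻¹ᵁ V p = ⊤ := eq_top_iff.2 fun p _ => Opens.mem_iSup.2 ⟨p, hpV p⟩
    refine ((pullback pY (Neron.genPt R)).openCoverOfIsOpenCover _ (IsOpenCover.mk hcov)).hom_ext _ _ fun p => ?_
    have h1 : (j ⁻¹ᵁ V p).ι ≫ l = (j ∣_ V p) ≫ Y.homOfLE (le_iSup V p) := by
      rw [← cancel_mono (iSup V).ι]
      simp only [Category.assoc, hl, Scheme.homOfLE_ι, morphismRestrict_ι]
      rfl
    show (j ⁻¹ᵁ V p).ι ≫ l ≫ g = (j ⁻¹ᵁ V p).ι ≫ a
    exact ((reassoc_of% h1) g).trans ((congrArg ((j ∣_ V p) ≫ ·) (hg p)).trans (hva p))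

end Groth.Agent.WeilExt
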