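import Groth.Agent.WeilExt.Main
import Groth.Agent.WeilExt.Spread
import Groth.Agent.S11107

/-!
# The Néron mapping property of groups over Dedekind domains with extension in codimension one
-/

set_option autoImplicit false
universe u

open CategoryTheory CategoryTheory.Limits AlgebraicGeometry IsLocalRing

namespace Groth.Agent.WeilExt

variable {R : Type u} [CommRing R] [IsDedekindDomain R]

theorem mem_closure_fibre {Y : Scheme.{u}} (pY : Y ⟶ Spec (CommRingCat.of R)) [Smooth pY]
    (V : Y.Opens) (hV : ∀ y : Y, ringKrullDim (Y.presheaf.stalk y) ≤ 1 → y ∈ V) (x : Y) :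
    x ∈ closure ((V : Set Y) ∩ {y | pY.base y = pY.base x}) := by
  haveI : IsNoetherianRing ↑(CommRingCat.of R) := inferInstanceAs (IsNoetherianRing R)
  haveI : IsLocallyNoetherian Y := LocallyOfFiniteType.isLocallyNoetherian pY
  let ψ : R →+* Y.presheaf.stalk x := (Spec.preimage (Y.fromSpecStalk x ≫ pY)).hom
  have hψ : Spec.map (CommRingCat.ofHom ψ) = Y.fromSpecStalk x ≫ pY := Spec.map_preimage _
  have hcomap : ∀ q : Spec (Y.presheaf.stalk x), (pY.base ((Y.fromSpecStalk x).base q) : PrimeSpectrum R).asIdeal =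
      (q : PrimeSpectrum (Y.presheaf.stalk x)).asIdeal.comap ψ := fun q => by
    rw [← Scheme.Hom.comp_apply, ← hψ]
    rfl
  let s : Ideal R := (pY.base x : PrimeSpectrum R).asIdeal
  have hs : s = (maximalIdeal (Y.presheaf.stalk x)).comap ψ := by
    have := hcomap (closedPoint (Y.presheaf.stalk x))
    rwa [Scheme.fromSpecStalk_closedPoint] at this
  obtain ⟨t, ht, hts⟩ : ∃ t ∈ s, s = ⊥ ∨ t ≠ 0 := by
    by_cases h : s = ⊥
    · exact ⟨0, zero_mem _, Or.inl h⟩
    · obtain ⟨t, ht, ht0⟩ := Submodule.exists_mem_ne_zero_of_ne_bot h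
      exact ⟨t, ht, Or.inr ht0⟩
  have htm : ψ t ∈ maximalIdeal (Y.presheaf.stalk x) := by
    rw [hs, Ideal.mem_comap] at ht; exact ht
  obtain ⟨p, hp⟩ := Ideal.nonempty_minimalPrimes (I := Ideal.span {ψ t})
    (fun h => (maximalIdeal.isMaximal _).ne_top
      (top_le_iff.1 (h ▸ (Ideal.span_singleton_le_iff_mem _).2 htm)))
  haveI := hp.1.1
  let q : Spec (Y.presheaf.stalk x) := (⟨p, hp.1.1⟩ : PrimeSpectrum (Y.presheaf.stalk x))
  let z : Y := (Y.fromSpecStalk x).base q
  have hzV : z ∈ V := hV z (by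
    rw [ringKrullDim_stalk_fromSpecStalk]
    exact WithBot.coe_le_coe.2 (Ideal.height_le_one_of_isPrincipal_of_mem_minimalPrimes _ p hp))
  have hzx : z ⤳ x := Y.range_fromSpecStalk.le ⟨q, rfl⟩
  have hfib : pY.base z = pY.base x := by
    refine PrimeSpectrum.ext ?_
    rw [hcomap q]
    refine le_antisymm ?_ ?_
    · change p.comap ψ ≤ s
      rw [hs]
      exact Ideal.comap_mono (IsLocalRing.le_maximalIdeal hp.1.1.ne_top)
    · change s ≤ p.comap ψ
      rcases hts with h | h
      · rw [h]; exact bot_le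
      · have htp : t ∈ p.comap ψ := hp.1.2 (Ideal.mem_span_singleton_self _)
        have hne : p.comap ψ ≠ ⊥ := fun h0 => h ((Ideal.mem_bot).1 (h0 ▸ htp))
        have hmax : (p.comap ψ).IsMaximal := (Ideal.comap_isPrime ψ p).isMaximal hne
        refine le_of_eq (hmax.eq_of_le (pY.base x : PrimeSpectrum R).isPrime.ne_top ?_).symm
        rw [← show s = (pY.base x : PrimeSpectrum R).asIdeal from rfl, hs]
        exact Ideal.comap_mono (IsLocalRing.le_maximalIdeal hp.1.1.ne_top)
  exact closure_mono (Set.singleton_subset_iff.2 (show z ∈ (V : Set Y) ∩ {y | pY.base y = pY.base x} from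
    ⟨hzV, hfib⟩)) (specializes_iff_mem_closure.1 hzx)

/-- A separated lft group scheme over a Dedekind domain into which rational maps from smooth schemes
extend in codimension one has the Néron mapping property. -/
theorem bijective_genericFibre_map (Y N : Over (Spec (CommRingCat.of R))) [GrpObj N]
    [Smooth Y.hom] [IsSeparated N.hom] [LocallyOfFiniteType N.hom]
    (hext : ∀ (U : Y.left.Opens), Dense (U : Set Y.left) → ∀ f : (U : Scheme.{u}) ⟶ N.left,
      f ≫ N.hom = U.ι ≫ Y.hom → ∃ (V : Y.left.Opens) (hUV : U ≤ V) (g : (V : Scheme.{u}) ⟶ N.left),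
        g ≫ N.hom = V.ι ≫ Y.hom ∧ Y.left.homOfLE hUV ≫ g = f ∧
        ∀ y, ringKrullDim (Y.left.presheaf.stalk y) ≤ 1 → y ∈ V) :
    Function.Bijective (fun g : Y ⟶ N => (Neron.genericFibre R).map g) := by
  refine ⟨fun f g h => NeronLib.Dense.eq_of_genericFibre_map_eq R h, fun b => ?_⟩
  haveI : IsNoetherianRing ↑(CommRingCat.of R) := inferInstanceAs (IsNoetherianRing R)
  have hY := S11107.isRegularLocalRing_stalk Y.hom
  let a : pullback Y.hom (Neron.genPt R) ⟶ N.left := b.left ≫ pullback.fst N.hom (Neron.genPt R)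
  have hb : b.left ≫ pullback.snd N.hom (Neron.genPt R) = pullback.snd Y.hom (Neron.genPt R) := Over.w b
  have ha : a ≫ N.hom = pullback.fst Y.hom _ ≫ Y.hom := by
    rw [Category.assoc, pullback.condition, reassoc_of% hb, ← pullback.condition]
  obtain ⟨U, g, hU, hg, hsub, hga⟩ := exists_spread Y.hom N.hom hY a ha
  obtain ⟨V, hUV, g', hg', hres, hV⟩ := hext U hU g hg
  haveI : GrpObj (Over.mk N.hom) := ‹GrpObj N›
  obtain ⟨G, hG, hGV⟩ := exists_extend Y.hom N.hom hY
    (S11107.isRegularLocalRing_stalk (pullback.fst Y.hom Y.hom ≫ Y.hom)) V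
    (mem_closure_fibre Y.hom V hV) hV g' hg'
  refine ⟨Over.homMk G hG, ?_⟩
  ext1
  refine pullback.hom_ext ?_ ?_
  · refine (pullback.lift_fst _ _ _).trans ?_
    change pullback.fst Y.hom (Neron.genPt R) ≫ G = a
    let l : pullback Y.hom (Neron.genPt R) ⟶ (U : Scheme.{u}) :=
      IsOpenImmersion.lift U.ι (pullback.fst _ _) (by rwa [Scheme.Opens.range_ι])
    have hl : l ≫ U.ι = pullback.fst _ _ := IsOpenImmersion.lift_fac _ _ _
    rw [← hga l hl, ← hres, ← hGV, Scheme.homOfLE_ι_assoc, reassoc_of% hl]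
  · refine (pullback.lift_snd _ _ _).trans hb.symm

theorem bijective_of_isProper (Y N : Over (Spec (CommRingCat.of R))) [GrpObj N]
    [Smooth Y.hom] [IsProper N.hom] :
    Function.Bijective (fun g : Y ⟶ N => (Neron.genericFibre R).map g) :=
  bijective_genericFibre_map Y N fun U hU f hf => by
    obtain ⟨V, hUV, g, hg, hres, hV⟩ := S11107.result Y.hom N.hom U hU f hf
    refine ⟨V, hUV, g, hg, hres, fun y hy => ?_⟩
    by_contra h
    exact absurd ((hV y h).trans hy) (by exact_mod_cast (by norm_num : ¬ (2 : ℕ) ≤ 1))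

end Groth.Agent.WeilExt
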