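import Mathlib

/-!
# Moving a point of `X ×_S X` in its fibre over the first factor
-/

set_option autoImplicit false
universe u

open CategoryTheory CategoryTheory.Limits AlgebraicGeometry

namespace Groth.Agent.WeilExt

/-- An open neighbourhood of `Δ x` contains a point `w` with `pr₁ w = x` and `pr₂ w` in a fibrewise
dense open. -/
theorem exists_mem_fst_eq_snd_mem {X S : Scheme.{u}} (pX : X ⟶ S) (U : X.Opens)
    (hdense : ∀ x : X, x ∈ closure ((U : Set X) ∩ {y | pX.base y = pX.base x})) (x : X)
    (V : (pullback pX pX).Opens) (hxV : (pullback.diagonal pX).base x ∈ V) :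
    ∃ w ∈ V, (pullback.fst pX pX).base w = x ∧ (pullback.snd pX pX).base w ∈ U := by
  let c := X.fromSpecResidueField x
  let d := S.fromSpecResidueField (pX.base x)
  let k := Spec.map (pX.residueFieldMap x)
  have hk : k ≫ d = c ≫ pX := Scheme.Hom.SpecMap_residueFieldMap_fromSpecResidueField _ _
  -- the fibre over `x`
  let j : pullback pX (c ≫ pX) ⟶ pullback pX pX :=
    pullback.lift (pullback.snd pX (c ≫ pX) ≫ c) (pullback.fst pX (c ≫ pX))
      (by rw [Category.assoc]; exact pullback.condition.symm)
  let m : pullback pX (c ≫ pX) ⟶ pullback pX d :=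
    pullback.lift (pullback.fst _ _) (pullback.snd _ _ ≫ k)
      (by rw [Category.assoc, hk]; exact pullback.condition)
  have hm : IsPullback (pullback.snd pX (c ≫ pX)) m k (pullback.snd pX d) := by
    refine IsPullback.of_bot ?_ (pullback.lift_snd _ _ _).symm (IsPullback.of_hasPullback pX d).flip
    rw [show m ≫ pullback.fst pX d = pullback.fst pX (c ≫ pX) from pullback.lift_fst _ _ _, hk]
    exact (IsPullback.of_hasPullback pX (c ≫ pX)).flip
  haveI : UniversallyOpen k := inferInstance
  haveI : UniversallyOpen m := MorphismProperty.of_isPullback hm inferInstance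
  let q₀ : Spec (X.residueField x) ⟶ pullback pX (c ≫ pX) :=
    pullback.lift c (𝟙 _) (Category.id_comp _).symm
  have hq₀ : q₀ ≫ j = c ≫ pullback.diagonal pX := by
    refine pullback.hom_ext ?_ ?_
    · rw [Category.assoc, pullback.lift_fst, pullback.lift_snd_assoc, Category.id_comp, Category.assoc,
        pullback.diagonal_fst, Category.comp_id]
    · rw [Category.assoc, pullback.lift_snd, pullback.lift_fst, Category.assoc,
        pullback.diagonal_snd, Category.comp_id]
  have hne : (q₀.base default) ∈ j ⁻¹ᵁ V := by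
    change j.base (q₀.base default) ∈ V
    rw [← Scheme.Hom.comp_apply, hq₀, Scheme.Hom.comp_apply, Scheme.fromSpecResidueField_apply]
    exact hxV
  obtain ⟨O', hO', hOm⟩ := (pullback.fst pX d).isEmbedding.isInducing.isOpen_iff.1
    (m.isOpenMap _ (j ⁻¹ᵁ V).2)
  have hx0 : x ∈ O' := by
    have h : m.base (q₀.base default) ∈ (pullback.fst pX d).base ⁻¹' O' := by
      rw [hOm]; exact ⟨_, hne, rfl⟩
    have e : (q₀ ≫ m ≫ pullback.fst pX d) = c := by rw [pullback.lift_fst, pullback.lift_fst]
    have := congrArg (fun f => f.base default) e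
    simp only [Scheme.Hom.comp_apply, c, Scheme.fromSpecResidueField_apply] at this
    rw [← this]
    exact h
  obtain ⟨y, hyO, hyU, hys⟩ := mem_closure_iff.1 (hdense x) O' hO' hx0
  obtain ⟨y', rfl⟩ : y ∈ Set.range (pullback.fst pX d).base := by
    rw [Scheme.Pullback.range_fst, Scheme.range_fromSpecResidueField]
    exact hys
  obtain ⟨q, hq, rfl⟩ : y' ∈ m.base '' (j ⁻¹ᵁ V).carrier := hOm ▸ hyO
  refine ⟨j.base q, hq, ?_, ?_⟩
  · rw [← Scheme.Hom.comp_apply, pullback.lift_fst, Scheme.Hom.comp_apply,
      Scheme.fromSpecResidueField_apply]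
  · rw [← Scheme.Hom.comp_apply, pullback.lift_snd]
    rw [← Scheme.Hom.comp_apply, pullback.lift_fst] at hyU
    exact hyU

end Groth.Agent.WeilExt
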