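import Groth.Agent.WeilExt.Diag
import Groth.Agent.WeilExt.Fibre
import Groth.Agent.GrpScheme.Homogeneous

/-!
# Weil's extension theorem for rational maps into group schemes
-/

set_option autoImplicit false
universe u

open CategoryTheory CategoryTheory.Limits AlgebraicGeometry MonObj

namespace Groth.Agent.WeilExt

variable {S X G : Scheme.{u}} [S.IsSeparated] (pX : X ⟶ S) (pG : G ⟶ S)
  [GrpObj (Over.mk pG)] [Smooth pX] [IsSeparated pG] [LocallyOfFiniteType pG]

theorem toUnit_left {T : Over S} :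
    (CartesianMonoidalCategory.toUnit T).left = T.hom := rfl

theorem isReduced_of_regular {Y : Scheme.{u}} (h : ∀ y : Y, IsRegularLocalRing (Y.presheaf.stalk y)) :
    IsReduced Y := by
  have : ∀ y : Y, _root_.IsReduced (Y.presheaf.stalk y) := fun y => by
    have := h y
    have := RegLoc.isDomain (Y.presheaf.stalk y)
    infer_instance
  exact isReduced_of_isReduced_stalk Y

theorem exists_extend [IsLocallyNoetherian S]
    (hX : ∀ x : X, IsRegularLocalRing (X.presheaf.stalk x))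
    (hP : ∀ p : (pullback pX pX : Scheme.{u}), IsRegularLocalRing ((pullback pX pX).presheaf.stalk p))
    (U : X.Opens) (hdense : ∀ x : X, x ∈ closure ((U : Set X) ∩ {y | pX.base y = pX.base x}))
    (hcodim : ∀ x : X, ringKrullDim (X.presheaf.stalk x) ≤ 1 → x ∈ U)
    (f : (U : Scheme.{u}) ⟶ G) (hf : f ≫ pG = U.ι ≫ pX) :
    ∃ g : X ⟶ G, g ≫ pG = pX ∧ U.ι ≫ g = f := by
  haveI : IsReduced X := isReduced_of_regular hX
  haveI : IsLocallyNoetherian X := LocallyOfFiniteType.isLocallyNoetherian pX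
  let pr₁ := pullback.fst pX pX
  let pr₂ := pullback.snd pX pX
  haveI : IsLocallyNoetherian (pullback pX pX) := LocallyOfFiniteType.isLocallyNoetherian pr₁
  have hU : Dense (U : Set X) := fun x => closure_mono Set.inter_subset_left (hdense x)
  let U2 : (pullback pX pX).Opens := pr₁ ⁻¹ᵁ U ⊓ pr₂ ⁻¹ᵁ U
  have hU2 : Dense (U2 : Set (pullback pX pX : Scheme.{u})) :=
    (hU.preimage pr₁.isOpenMap).inter_of_isOpen_left (hU.preimage pr₂.isOpenMap) (pr₁ ⁻¹ᵁ U).2
  let p2 : pullback pX pX ⟶ S := pr₁ ≫ pX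
  let fU : Over.mk (U.ι ≫ pX) ⟶ Over.mk pG := Over.homMk f hf
  let aL : (U2 : Scheme.{u}) ⟶ (U : Scheme.{u}) := IsOpenImmersion.lift U.ι (U2.ι ≫ pr₁) (by
      rintro _ ⟨t, rfl⟩
      rw [Scheme.Opens.range_ι]
      exact t.2.1)
  let bL : (U2 : Scheme.{u}) ⟶ (U : Scheme.{u}) := IsOpenImmersion.lift U.ι (U2.ι ≫ pr₂) (by
      rintro _ ⟨t, rfl⟩
      rw [Scheme.Opens.range_ι]
      exact t.2.2)
  have haL : aL ≫ U.ι = U2.ι ≫ pr₁ := IsOpenImmersion.lift_fac _ _ _
  have hbL : bL ≫ U.ι = U2.ι ≫ pr₂ := IsOpenImmersion.lift_fac _ _ _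
  let a' : Over.mk (U2.ι ≫ p2) ⟶ Over.mk (U.ι ≫ pX) := Over.homMk aL (by
      change aL ≫ U.ι ≫ pX = U2.ι ≫ pr₁ ≫ pX
      rw [← Category.assoc, haL, Category.assoc])
  let b' : Over.mk (U2.ι ≫ p2) ⟶ Over.mk (U.ι ≫ pX) := Over.homMk bL (by
      change bL ≫ U.ι ≫ pX = U2.ι ≫ pr₁ ≫ pX
      rw [← Category.assoc, hbL, Category.assoc]
      exact congrArg (U2.ι ≫ ·) pullback.condition.symm)
  let φO : Over.mk (U2.ι ≫ p2) ⟶ Over.mk pG := (a' ≫ fU) * (b' ≫ fU)⁻¹
  let φ : (U2 : Scheme.{u}) ⟶ G := φO.left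
  have hφ : φ ≫ pG = U2.ι ≫ p2 := Over.w φO
  -- the value on the diagonal
  let dL : (U : Scheme.{u}) ⟶ (U2 : Scheme.{u}) := IsOpenImmersion.lift U2.ι (U.ι ≫ pullback.diagonal pX) (by
      rintro _ ⟨t, rfl⟩
      rw [Scheme.Opens.range_ι]
      refine ⟨?_, ?_⟩
      · change pr₁.base ((U.ι ≫ pullback.diagonal pX).base t) ∈ U
        rw [← Scheme.Hom.comp_apply, Category.assoc, pullback.diagonal_fst, Category.comp_id]
        exact t.2
      · change pr₂.base ((U.ι ≫ pullback.diagonal pX).base t) ∈ U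
        rw [← Scheme.Hom.comp_apply, Category.assoc, pullback.diagonal_snd, Category.comp_id]
        exact t.2)
  have hdL : dL ≫ U2.ι = U.ι ≫ pullback.diagonal pX := IsOpenImmersion.lift_fac _ _ _
  let δU : Over.mk (U.ι ≫ pX) ⟶ Over.mk (U2.ι ≫ p2) := Over.homMk dL (by
      change dL ≫ U2.ι ≫ pr₁ ≫ pX = U.ι ≫ pX
      rw [← Category.assoc, hdL, Category.assoc, pullback.diagonal_fst_assoc])
  have hδa : δU ≫ a' = 𝟙 _ := by
    ext1
    change dL ≫ aL = 𝟙 _
    rw [← cancel_mono U.ι, Category.assoc, haL, ← Category.assoc, hdL, Category.assoc,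
      pullback.diagonal_fst, Category.comp_id, Category.id_comp]
  have hδb : δU ≫ b' = 𝟙 _ := by
    ext1
    change dL ≫ bL = 𝟙 _
    rw [← cancel_mono U.ι, Category.assoc, hbL, ← Category.assoc, hdL, Category.assoc,
      pullback.diagonal_snd, Category.comp_id, Category.id_comp]
  have hδφ : δU.left ≫ φ = (U.ι ≫ pX) ≫ (η[Over.mk pG]).left := by
    have : δU ≫ φO = 1 := by
      simp only [φO, MonObj.comp_mul, GrpObj.comp_inv, ← Category.assoc, hδa, hδb, mul_inv_cancel]
    exact (congrArg CommaMorphism.left this).trans (by rw [Hom.one_def]; rfl)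
  -- glue
  have hext : ∀ x ∈ (Set.univ : Set X), ∃ (V : X.Opens) (v : (V : Scheme.{u}) ⟶ G),
      x ∈ V ∧ v ≫ pG = V.ι ≫ pX ∧
      X.homOfLE (inf_le_right : U ⊓ V ≤ V) ≫ v = X.homOfLE (inf_le_left : U ⊓ V ≤ U) ≫ f := by
    intro x _
    haveI := hX x
    haveI := hP ((pullback.diagonal pX).base x)
    let e : S ⟶ G := (η[Over.mk pG]).left
    obtain ⟨_, ⟨W, hW, rfl⟩, hxW, -⟩ := G.isBasis_affineOpens.exists_subset_of_mem_open
      (Set.mem_univ (e.base (pX.base x))) isOpen_univ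
    obtain ⟨V, v, hxV, hv, hvφ⟩ := exists_extend_diag p2 pG (pullback.diagonal pX) x hU2 φ hφ hW
      fun z hzx hz => by
        let u : (U : Scheme.{u}) := ⟨z, hcodim z hz⟩
        refine ⟨δU.left.base u, ?_, ?_⟩
        · change U2.ι.base (dL.base u) = _
          rw [← Scheme.Hom.comp_apply, hdL, Scheme.Hom.comp_apply]
          rfl
        · rw [← Scheme.Hom.comp_apply, hδφ]
          simp only [Scheme.Hom.comp_apply]
          exact ((hzx.map pX.base.hom.continuous).map e.base.hom.continuous).mem_open W.2 hxW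
    let O1 : (pullback pX pX).Opens := V ⊓ pr₂ ⁻¹ᵁ U
    let jV : Over.mk (O1.ι ≫ p2) ⟶ Over.mk (V.ι ≫ p2) :=
      Over.homMk ((pullback pX pX).homOfLE inf_le_left) (Scheme.homOfLE_ι_assoc _ _ _)
    let cL : (O1 : Scheme.{u}) ⟶ (U : Scheme.{u}) := IsOpenImmersion.lift U.ι (O1.ι ≫ pr₂) (by
        rintro _ ⟨t, rfl⟩
        rw [Scheme.Opens.range_ι]
        exact t.2.2)
    have hcL : cL ≫ U.ι = O1.ι ≫ pr₂ := IsOpenImmersion.lift_fac _ _ _
    let c : Over.mk (O1.ι ≫ p2) ⟶ Over.mk (U.ι ≫ pX) := Over.homMk cL (by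
        change cL ≫ U.ι ≫ pX = O1.ι ≫ pr₁ ≫ pX
        rw [← Category.assoc, hcL, Category.assoc]
        exact congrArg (O1.ι ≫ ·) pullback.condition.symm)
    let vO : Over.mk (V.ι ≫ p2) ⟶ Over.mk pG := Over.homMk (U := Over.mk (V.ι ≫ p2)) (V := Over.mk pG) v hv
    let hO : Over.mk (O1.ι ≫ p2) ⟶ Over.mk pG := (jV ≫ vO) * (c ≫ fU)
    let h : (O1 : Scheme.{u}) ⟶ G := hO.left
    have hh : h ≫ pG = O1.ι ≫ p2 := Over.w hO
    -- on the part over `U` it is `f ∘ pr₁`
    have K : ∀ {T : Scheme.{u}} (t : T ⟶ (O1 : Scheme.{u})) (t'' : T ⟶ (U : Scheme.{u})),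
        t'' ≫ U.ι = t ≫ O1.ι ≫ pr₁ → t ≫ h = t'' ≫ f := by
      intro T t t'' ht
      let tO : Over.mk (t ≫ O1.ι ≫ p2) ⟶ Over.mk (O1.ι ≫ p2) := Over.homMk t rfl
      have hr : Set.range (t ≫ O1.ι).base ⊆ (U2 ⊓ V : (pullback pX pX).Opens) := by
        rintro _ ⟨s, rfl⟩
        refine ⟨⟨?_, (t.base s).2.2⟩, (t.base s).2.1⟩
        change pr₁.base ((t ≫ O1.ι).base s) ∈ U
        rw [← Scheme.Hom.comp_apply, Category.assoc, ← ht, Scheme.Hom.comp_apply]
        exact (t''.base s).2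
      let t2 : T ⟶ (U2 ⊓ V : (pullback pX pX).Opens) :=
        IsOpenImmersion.lift (U2 ⊓ V).ι (t ≫ O1.ι) (by rwa [Scheme.Opens.range_ι])
      have ht2 : t2 ≫ (U2 ⊓ V).ι = t ≫ O1.ι := IsOpenImmersion.lift_fac _ _ _
      let t3 : Over.mk (t ≫ O1.ι ≫ p2) ⟶ Over.mk (U2.ι ≫ p2) :=
        Over.homMk (t2 ≫ (pullback pX pX).homOfLE inf_le_left) (by
          change (t2 ≫ _) ≫ U2.ι ≫ p2 = _
          rw [Category.assoc, Scheme.homOfLE_ι_assoc, ← Category.assoc, ht2, Category.assoc]; rfl)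
      have hA : tO ≫ jV ≫ vO = t3 ≫ φO := by
        ext1
        simp only [Over.comp_left, tO, jV, t3, vO, Over.homMk_left]
        have : t ≫ (pullback pX pX).homOfLE (inf_le_left : O1 ≤ V) =
            t2 ≫ (pullback pX pX).homOfLE (inf_le_right : U2 ⊓ V ≤ V) := by
          rw [← cancel_mono V.ι, Category.assoc, Category.assoc, Scheme.homOfLE_ι, Scheme.homOfLE_ι, ht2]
        change t ≫ _ ≫ v = (t2 ≫ _) ≫ φ
        rw [← Category.assoc, this, Category.assoc, hvφ, Category.assoc]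
      have hC : tO ≫ c = t3 ≫ b' := by
        ext1
        change t ≫ cL = (t2 ≫ (pullback pX pX).homOfLE inf_le_left) ≫ bL
        rw [← cancel_mono U.ι, Category.assoc, Category.assoc, hcL, hbL, Category.assoc,
          Scheme.homOfLE_ι_assoc, ← Category.assoc, ← Category.assoc, ht2]
      have hT : tO ≫ hO = t3 ≫ a' ≫ fU := by
        simp only [hO, MonObj.comp_mul, hA, reassoc_of% hC, φO, GrpObj.comp_inv, inv_mul_cancel_right]
      refine (congrArg CommaMorphism.left hT).trans ?_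
      change (t2 ≫ (pullback pX pX).homOfLE inf_le_left) ≫ aL ≫ f = _
      rw [← Category.assoc]
      congr 1
      rw [← cancel_mono U.ι, ht, Category.assoc, Category.assoc, haL, Scheme.homOfLE_ι_assoc,
        ← Category.assoc, ht2, Category.assoc]
    let π : (O1 : Scheme.{u}) ⟶ X := O1.ι ≫ pr₁
    haveI : Smooth π := inferInstance
    let V' : X.Opens := ⟨Set.range π.base, π.isOpenMap.isOpen_range⟩
    have hxV' : x ∈ V' := by
      obtain ⟨w, hwV, hw1, hw2⟩ := exists_mem_fst_eq_snd_mem pX U hdense x V hxV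
      exact ⟨⟨w, hwV, hw2⟩, hw1⟩
    let π' := π ∣_ V'
    haveI : Surjective π' := by
      refine ⟨fun q => ?_⟩
      obtain ⟨o, ho⟩ := q.2
      refine ⟨⟨o, (Set.mem_of_eq_of_mem ho q.2 : π.base o ∈ (V' : Set X))⟩, V'.ι.isOpenEmbedding.injective ?_⟩
      have e := congrArg (fun g => g.base (⟨o, (Set.mem_of_eq_of_mem ho q.2 : π.base o ∈ (V' : Set X))⟩ :
        (π ⁻¹ᵁ V').toScheme)) (morphismRestrict_ι π V')
      simp only [Scheme.Hom.comp_apply] at e
      exact e.trans ho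
    haveI : Smooth π' := MorphismProperty.of_isPullback (isPullback_morphismRestrict π V').flip inferInstance
    let h' := (π ⁻¹ᵁ V').ι ≫ h
    have hπ'ι : π' ≫ V'.ι = (π ⁻¹ᵁ V').ι ≫ π := morphismRestrict_ι _ _
    have hh' : h' ≫ pG = π' ≫ V'.ι ≫ pX := by
      rw [← Category.assoc π', hπ'ι, Category.assoc, hh, Category.assoc, Category.assoc]
    haveI : IsReduced (pullback π' π') := by
      haveI : IsReduced (V' : Scheme.{u}) := isReduced_of_isOpenImmersion V'.ι
      exact GrpScheme.Homogeneous.isReduced_of_smooth (pullback.fst π' π' ≫ π')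
    have heq : pullback.fst π' π' ≫ h' = pullback.snd π' π' ≫ h' := by
      let τ : pullback π' π' ⟶ X := pullback.fst π' π' ≫ π' ≫ V'.ι
      haveI : Smooth τ := inferInstance
      haveI : IsDominant (τ ⁻¹ᵁ U).ι := ⟨by
        rw [DenseRange, Scheme.Opens.range_ι]
        exact hU.preimage τ.isOpenMap⟩
      have hc : (pullback.fst π' π' ≫ h') ≫ pG = (pullback.snd π' π' ≫ h') ≫ pG := by
        have := hh'
        simp only [h', Category.assoc] at this ⊢
        rw [this, pullback.condition_assoc]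
      refine ext_of_isDominant_of_isSeparated pG ?_ (τ ⁻¹ᵁ U).ι ?_
      · exact hc
      · rw [← Category.assoc, ← Category.assoc]
        simp only [h', ← Category.assoc]
        rw [K _ ((τ ∣_ U)) ?_, K _ ((τ ∣_ U)) ?_]
        · simp only [τ, π, morphismRestrict_ι, Category.assoc, hπ'ι]
          have hcond := pullback.condition (f := π') (g := π') =≫ V'.ι
          simp only [Category.assoc, hπ'ι] at hcond
          simp only [π] at hcond
          rw [hcond]
        · simp only [τ, π, morphismRestrict_ι, Category.assoc, hπ'ι]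
    let gV : (V' : Scheme.{u}) ⟶ G := EffectiveEpi.desc π' h' (fun g₁ g₂ hg => by
      rw [← pullback.lift_fst g₁ g₂ hg, Category.assoc, heq, ← Category.assoc, pullback.lift_snd])
    have hgV : π' ≫ gV = h' := EffectiveEpi.fac _ _ _
    refine ⟨V', gV, hxV', ?_, ?_⟩
    · rw [← cancel_epi π', ← Category.assoc, hgV, hh']
    · let U' := V'.ι ⁻¹ᵁ U
      let ρ := π' ∣_ U'
      haveI : Surjective ρ := MorphismProperty.of_isPullback (isPullback_morphismRestrict π' U').flip inferInstance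
      haveI : Smooth ρ := MorphismProperty.of_isPullback (isPullback_morphismRestrict π' U').flip inferInstance
      let i : ((U ⊓ V' : X.Opens) : Scheme.{u}) ⟶ (U' : Scheme.{u}) :=
        IsOpenImmersion.lift U'.ι (X.homOfLE inf_le_right) (by
          rintro _ ⟨s, rfl⟩
          rw [Scheme.Opens.range_ι]
          change V'.ι.base ((X.homOfLE _).base s) ∈ U
          rw [← Scheme.Hom.comp_apply, Scheme.homOfLE_ι]
          exact s.2.1)
      have hkey : U'.ι ≫ gV = (V'.ι ∣_ U) ≫ f := by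
        rw [← cancel_epi ρ, ← Category.assoc, morphismRestrict_ι, Category.assoc, hgV, ← Category.assoc,
          K _ (ρ ≫ (V'.ι ∣_ U)) ?_, Category.assoc]
        simp only [ρ, U', π, Category.assoc, morphismRestrict_ι, morphismRestrict_ι_assoc, hπ'ι]
      rw [show X.homOfLE (inf_le_right : U ⊓ V' ≤ V') = i ≫ U'.ι from (IsOpenImmersion.lift_fac _ _ _).symm,
        Category.assoc, hkey, ← Category.assoc]
      congr 1
      rw [← cancel_mono U.ι, Category.assoc, morphismRestrict_ι, Scheme.homOfLE_ι,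
        ← Category.assoc]
      change (i ≫ U'.ι) ≫ V'.ι = _
      rw [show i ≫ U'.ι = X.homOfLE (inf_le_right : U ⊓ V' ≤ V') from IsOpenImmersion.lift_fac _ _ _,
        Scheme.homOfLE_ι]
  obtain ⟨Wt, hUW, w, hmem, hw, hres⟩ := CurveExt.exists_glue_extensions pX pG hU f hf Set.univ hext
  obtain rfl : Wt = ⊤ := eq_top_iff.2 fun x _ => hmem x trivial
  refine ⟨X.topIso.inv ≫ w, ?_, ?_⟩
  · rw [Category.assoc, hw, ← Category.assoc, ← Scheme.topIso_hom, Iso.inv_hom_id, Category.id_comp]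
  · rw [← Category.assoc]
    conv_rhs => rw [← hres]
    congr 1
    rw [← cancel_mono (⊤ : X.Opens).ι, Category.assoc, ← Scheme.topIso_hom, Iso.inv_hom_id,
      Category.comp_id, Scheme.topIso_hom, Scheme.homOfLE_ι]

end Groth.Agent.WeilExt
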