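import Mathlib

/-!
An element of the fraction field of a factorial ring `O` which is regular at all primes lying over
primes of height at most one of a local quotient `A` of `O` lies in `O`.
-/

set_option autoImplicit false
universe u v w

namespace Groth.Agent.WeilExt

/-- a non-unit lies in a prime of height at most one -/
theorem exists_prime_mem_height_le_one {A : Type u} [CommRing A] [IsDomain A] [IsNoetherianRing A]
    {b : A} (hb : ¬ IsUnit b) : ∃ p : Ideal A, p.IsPrime ∧ b ∈ p ∧ p.height ≤ 1 := by
  by_cases h0 : b = 0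
  · subst h0
    exact ⟨⊥, Ideal.isPrime_bot, zero_mem _, by simp⟩
  · obtain ⟨p, hp⟩ := Ideal.nonempty_minimalPrimes (I := Ideal.span {b})
      (fun h => hb (Ideal.span_singleton_eq_top.1 h))
    exact ⟨p, hp.1.1, hp.1.2 (Ideal.mem_span_singleton_self b),
      Ideal.height_le_one_of_isPrincipal_of_mem_minimalPrimes _ p hp⟩

theorem mem_range_of_forall {O : Type u} [CommRing O] [IsDomain O] [UniqueFactorizationMonoid O]
    {A : Type v} [CommRing A] [IsDomain A] [IsNoetherianRing A] (π : O →+* A) [IsLocalHom π]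
    {K : Type w} [Field K] [Algebra O K] [IsFractionRing O K] (c : K)
    (H : ∀ p : Ideal A, p.IsPrime → p.height ≤ 1 →
      ∃ a d : O, d ∉ p.comap π ∧ c * algebraMap O K d = algebraMap O K a) :
    c ∈ (algebraMap O K).range := by
  obtain ⟨a, b, hrel, rfl⟩ := IsFractionRing.exists_reduced_fraction (A := O) c
  have hb : IsUnit (b : O) := by
    by_contra hb
    obtain ⟨p, hp, hbp, hht⟩ := exists_prime_mem_height_le_one
      (b := π b) (fun h => hb (IsUnit.of_map π _ h))
    obtain ⟨a', d, hd, he⟩ := H p hp hht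
    have hinj := IsFractionRing.injective O K
    have h1 : a * d = a' * b := hinj (by
      rw [map_mul, map_mul, ← he, mul_right_comm, IsLocalization.mk'_spec K a b])
    have hdvd : (b : O) ∣ a * d := ⟨a', by rw [h1, mul_comm]⟩
    obtain ⟨e, rfl⟩ := hrel.symm.dvd_of_dvd_mul_left hdvd
    exact hd (Ideal.mem_comap.2 (by rw [map_mul]; exact p.mul_mem_right _ hbp))
  refine ⟨a * (hb.unit⁻¹ : Oˣ), ?_⟩
  rw [eq_comm, IsLocalization.mk'_eq_iff_eq_mul, ← map_mul, mul_assoc, IsUnit.val_inv_mul hb, mul_one]

end Groth.Agent.WeilExt
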